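import Groth.Prelude.Def_HTop3
import Groth.Agent.BlowUpLib.Basic
import Mathlib

/-!
# Almost blow-up squares: sections supported on a locally principal subscheme; base change
-/

set_option backward.isDefEq.respectTransparency false
set_option backward.isDefEq.respectTransparency.types false
set_option linter.style.haveILetI false
set_option autoImplicit false

universe u

open CategoryTheory AlgebraicGeometry Limits

namespace Groth.Agent.AlmostBlow

open Groth.Agent.BlowUpLib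

variable {X Y T : Scheme.{u}} {𝓘 : X.IdealSheafData}

theorem awayFrom_comap (g : Y ⟶ X) : HTop.awayFrom (𝓘.comap g) = g ⁻¹ᵁ HTop.awayFrom 𝓘 := by
  ext1
  simp [HTop.awayFrom]

theorem res_mem_ideal (I : X.IdealSheafData) {U V : X.affineOpens} (h : V ≤ U) {a : Γ(X, U.1)}
    (ha : a ∈ I.ideal U) : (X.presheaf.map (homOfLE h).op).hom a ∈ I.ideal V := by
  rw [← I.map_ideal h]; exact Ideal.mem_map_of_mem _ ha

/-- The complement of an effective Cartier divisor is schematically dense. -/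
theorem supportedOn_eq_bot (h : BlowUp.IsEffCartierIdeal 𝓘) : HTop.supportedOn 𝓘 = ⊥ := by
  ext U a
  simp only [Scheme.IdealSheafData.ideal_bot, Pi.bot_apply, Ideal.mem_bot]
  constructor
  · intro ha
    refine TopCat.Presheaf.section_ext X.sheaf U.1 _ _ fun x hx => ?_
    obtain ⟨W, hxW, hWU, g, hg, he⟩ := exists_small_generator h (O := U.1) hx
    have hle : W.1 ≤ U.1 := hWU
    have hb := res_mem_ideal _ hle ha
    have hb0 : (X.presheaf.map (homOfLE hle).op).hom a = 0 := by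
      refine eq_zero_of_germ hg _ fun y hy => ?_
      have hyaway : y ∈ HTop.awayFrom 𝓘 :=
        (mem_basicOpen_of_notMem_support he (X.basicOpen_le g hy)).2 hy
      have h1 := RingHom.mem_ker.1 ((HTop.awayFrom 𝓘).ι.ideal_ker_le W hb)
      have h2 := Scheme.Hom.germ_stalkMap_apply (HTop.awayFrom 𝓘).ι W.1
        (⟨y, hyaway⟩ : (HTop.awayFrom 𝓘).toScheme) (X.basicOpen_le g hy)
        ((X.presheaf.map (homOfLE hle).op).hom a)
      replace h2 := h2.trans ((congrArg _ h1).trans (map_zero _))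
      exact (ConcreteCategory.bijective_of_isIso
        ((HTop.awayFrom 𝓘).ι.stalkMap ⟨y, hyaway⟩)).1 (h2.trans (map_zero _).symm)
    have h3 := congrArg (X.presheaf.germ W.1 x hxW).hom hb0
    rw [map_zero] at h3
    exact ((X.presheaf.germ_res_apply _ _ _ _).symm.trans h3).trans (map_zero _).symm
  · rintro rfl
    exact zero_mem _

/-- Morphisms pulling `𝓘` back to an effective Cartier ideal factor through the sections supported on `𝓘`. -/
theorem supportedOn_le_ker (h : T ⟶ X) (hc : BlowUp.IsEffCartierIdeal (𝓘.comap h)) :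
    HTop.supportedOn 𝓘 ≤ h.ker := by
  have hbot : (h ⁻¹ᵁ HTop.awayFrom 𝓘).ι.ker = ⊥ :=
    awayFrom_comap (𝓘 := 𝓘) h ▸ supportedOn_eq_bot hc
  have h1 : ((h ∣_ HTop.awayFrom 𝓘) ≫ (HTop.awayFrom 𝓘).ι).ker = h.ker := by
    rw [morphismRestrict_ι, ← Scheme.IdealSheafData.map_ker, hbot, Scheme.IdealSheafData.map_bot]
  exact h1 ▸ (h ∣_ HTop.awayFrom 𝓘).le_ker_comp (HTop.awayFrom 𝓘).ι

theorem exists_lift (h : T ⟶ X) (hc : BlowUp.IsEffCartierIdeal (𝓘.comap h)) :
    ∃ l : T ⟶ (HTop.supportedOn 𝓘).subscheme, l ≫ (HTop.supportedOn 𝓘).subschemeι = h :=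
  ⟨IsClosedImmersion.lift _ h (by rw [Scheme.IdealSheafData.ker_subschemeι]; exact supportedOn_le_ker h hc),
    IsClosedImmersion.lift_fac _ _ _⟩

theorem awayFrom_inf_eq_basicOpen {U : X.affineOpens} {f : Γ(X, U.1)}
    (he : 𝓘.ideal U = Ideal.span {f}) : HTop.awayFrom 𝓘 ⊓ U.1 = X.basicOpen f := by
  ext x
  constructor
  · rintro ⟨h1, h2⟩
    exact (mem_basicOpen_of_notMem_support he h2).1 h1
  · exact fun hx => ⟨(mem_basicOpen_of_notMem_support he (X.basicOpen_le f hx)).2 hx, X.basicOpen_le f hx⟩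

theorem quasiCompact_awayFrom_ι (h : HTop.IsLocPrincipal 𝓘) : QuasiCompact (HTop.awayFrom 𝓘).ι := by
  choose U hU f he using h
  have hsup : ⨆ x, ((U x).1 : X.Opens) = ⊤ :=
    top_le_iff.1 fun x _ => TopologicalSpace.Opens.mem_iSup.2 ⟨x, hU x⟩
  refine (HasAffineProperty.iff_of_iSup_eq_top (P := @QuasiCompact) U hsup).2 fun x => ?_
  show CompactSpace ((HTop.awayFrom 𝓘).ι ⁻¹ᵁ (U x).1).toScheme
  refine isCompact_iff_compactSpace.1 ?_
  rw [(HTop.awayFrom 𝓘).ι.isOpenEmbedding.isEmbedding.isInducing.isCompact_iff]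
  have himg : (HTop.awayFrom 𝓘).ι ''ᵁ ((HTop.awayFrom 𝓘).ι ⁻¹ᵁ (U x).1) = X.basicOpen (f x) := by
    rw [Scheme.Hom.image_preimage_eq_opensRange_inf, Scheme.Opens.opensRange_ι,
      awayFrom_inf_eq_basicOpen (he x)]
  have h2 := ((U x).2.basicOpen (f x)).isCompact
  rw [← himg] at h2
  exact h2

/-- A locally principal ideal becomes effective Cartier once the sections supported on it are killed. -/
theorem cartier_comap_subschemeι (h : HTop.IsLocPrincipal 𝓘) :
    BlowUp.IsEffCartierIdeal (𝓘.comap (HTop.supportedOn 𝓘).subschemeι) := by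
  intro v
  have := quasiCompact_awayFrom_ι h
  set ι := (HTop.supportedOn 𝓘).subschemeι
  obtain ⟨U, hU, f, he⟩ := h (ι v)
  have hWaff : IsAffineOpen (ι ⁻¹ᵁ U.1) := U.2.preimage ι
  refine ⟨⟨ι ⁻¹ᵁ U.1, hWaff⟩, hU, (ι.app U.1).hom f, mem_nonZeroDivisors_iff_right.2 fun a ha => ?_, ?_⟩
  · obtain ⟨b, rfl⟩ := (HTop.supportedOn 𝓘).subschemeι_app_surjective U a
    have hk : RingHom.ker (ι.app U.1).hom = (HTop.supportedOn 𝓘).ideal U :=
      (HTop.supportedOn 𝓘).ker_subschemeι_app U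
    have hi : (HTop.supportedOn 𝓘).ideal U = RingHom.ker ((HTop.awayFrom 𝓘).ι.app U.1).hom :=
      Scheme.Hom.ker_apply _ _
    rw [← map_mul, ← RingHom.mem_ker, hk, hi, RingHom.mem_ker, map_mul] at ha
    rw [← RingHom.mem_ker, hk, hi, RingHom.mem_ker]
    refine (IsUnit.mul_left_eq_zero ?_).1 ha
    have hfull : ((HTop.awayFrom 𝓘).ι ⁻¹ᵁ U.1) ≤
        (HTop.awayFrom 𝓘).toScheme.basicOpen (((HTop.awayFrom 𝓘).ι.app U.1).hom f) := by
      intro z hz
      rw [← Scheme.preimage_basicOpen]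
      exact (mem_basicOpen_of_notMem_support he hz).1 z.2
    exact (HTop.awayFrom 𝓘).toScheme.toRingedSpace.isUnit_of_isUnit_germ _ _ fun z hz =>
      ((HTop.awayFrom 𝓘).toScheme.mem_basicOpen _ z hz).1 (hfull hz)
  · rw [FpqcDescent.ideal_comap_appLE 𝓘 ι U ⟨_, hWaff⟩ le_rfl, he, Ideal.map_span, Set.image_singleton,
      Scheme.Hom.app_eq_appLE]

theorem isLocPrincipal_comap (h : HTop.IsLocPrincipal 𝓘) (g : Y ⟶ X) :
    HTop.IsLocPrincipal (𝓘.comap g) := by
  intro y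
  obtain ⟨U, hU, f, he⟩ := h (g y)
  obtain ⟨W, hW, hyW, hle⟩ := exists_isAffineOpen_mem_and_subset (X := Y) (U := g ⁻¹ᵁ U.1) hU
  exact ⟨⟨W, hW⟩, hyW, (g.appLE U.1 W hle).hom f, by
    rw [FpqcDescent.ideal_comap_appLE 𝓘 g U ⟨W, hW⟩ hle, he, Ideal.map_span, Set.image_singleton]⟩

theorem ker_of_isPullback {Z Z₁ X₁ : Scheme.{u}} {i : Z ⟶ X} [IsClosedImmersion i] {g : X₁ ⟶ X}
    {i₁ : Z₁ ⟶ X₁} {gZ : Z₁ ⟶ Z} (h : IsPullback gZ i₁ i g) : i₁.ker = i.ker.comap g := by
  rw [← Scheme.IdealSheafData.ker_fst_of_isClosedImmersion, ← h.flip.isoPullback_hom_fst]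
  exact Scheme.Hom.ker_comp_of_isIso _ _

theorem main {E Z X' X Y E₁ Z₁ X₁ : Scheme.{u}} {e : E ⟶ X'} {π : E ⟶ Z} {b : X' ⟶ X} {i : Z ⟶ X}
    (h : HTop.IsAlmostBlowUpSquare e π b i) (g : Y ⟶ X) {b₁ : X₁ ⟶ Y} {gX : X₁ ⟶ X'}
    (hX : IsPullback gX b₁ b g) {i₁ : Z₁ ⟶ Y} {gZ : Z₁ ⟶ Z} (hZ : IsPullback gZ i₁ i g)
    {e₁ : E₁ ⟶ X₁} {gE : E₁ ⟶ E} (hE : IsPullback gE e₁ e gX) {π₁ : E₁ ⟶ Z₁}
    (hπ : π₁ ≫ i₁ = e₁ ≫ b₁) : HTop.IsAlmostBlowUpSquare e₁ π₁ b₁ i₁ := by
  have := h.isClosedImmersion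
  have hker := ker_of_isPullback hZ
  have hJ : i₁.ker.comap b₁ = (i.ker.comap b).comap gX := by
    rw [hker, ← Scheme.IdealSheafData.comap_comp, ← Scheme.IdealSheafData.comap_comp, hX.w]
  have hlp : HTop.IsLocPrincipal (i₁.ker.comap b₁) := hJ ▸ isLocPrincipal_comap h.locPrincipal gX
  refine ⟨MorphismProperty.of_isPullback hZ inferInstance,
    MorphismProperty.of_isPullback hZ h.finitePresentation_base, ?_, hlp,
    MorphismProperty.of_isPullback hX h.isProper,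
    MorphismProperty.of_isPullback hX h.finitePresentation, ?_⟩
  · have h1 : π₁ ≫ gZ = gE ≫ π := by
      rw [← cancel_mono i, Category.assoc, hZ.w, reassoc_of% hπ, Category.assoc, ← h.isPullback.w,
        ← hX.w, ← Category.assoc, ← Category.assoc, hE.w]
    have hbig : IsPullback (gE ≫ π) e₁ i (gX ≫ b) := hE.paste_horiz h.isPullback.flip
    rw [hX.w, ← h1] at hbig
    exact (IsPullback.of_right hbig hπ hZ).flip
  · let V := HTop.supportedOn (i.ker.comap b)
    let V₁ := HTop.supportedOn (i₁.ker.comap b₁)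
    have hc₁ : BlowUp.IsEffCartierIdeal (i₁.ker.comap (V₁.subschemeι ≫ b₁)) := by
      rw [Scheme.IdealSheafData.comap_comp]
      exact cartier_comap_subschemeι hlp
    refine ⟨hc₁, fun T t ht => ?_⟩
    have ht' : BlowUp.IsEffCartierIdeal (i.ker.comap (t ≫ g)) := by
      rw [Scheme.IdealSheafData.comap_comp, ← hker]
      exact ht
    obtain ⟨q, hq, huniq⟩ := h.isBlowUp.2 T (t ≫ g) ht'
    let l := hX.lift (q ≫ V.subschemeι) t (by rw [Category.assoc]; exact hq)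
    obtain ⟨k, hk⟩ := exists_lift (𝓘 := i₁.ker.comap b₁) l (by
      rw [← Scheme.IdealSheafData.comap_comp, hX.lift_snd]; exact ht)
    refine ⟨k, by show k ≫ V₁.subschemeι ≫ b₁ = t; rw [reassoc_of% hk, hX.lift_snd], fun k' hk' => ?_⟩
    have hc' : BlowUp.IsEffCartierIdeal ((i.ker.comap b).comap (k' ≫ V₁.subschemeι ≫ gX)) := by
      rw [← Category.assoc, Scheme.IdealSheafData.comap_comp, ← hJ,
        ← Scheme.IdealSheafData.comap_comp, Category.assoc, hk']
      exact ht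
    obtain ⟨q', hq'⟩ := exists_lift _ hc'
    have hqq : q' = q := huniq q' (by
      show q' ≫ V.subschemeι ≫ b = t ≫ g
      rw [reassoc_of% hq', hX.w, reassoc_of% hk'])
    rw [← cancel_mono V₁.subschemeι, hk]
    refine hX.hom_ext ?_ ?_
    · rw [hX.lift_fst, Category.assoc, ← hq', hqq]
    · rw [hX.lift_snd, Category.assoc]; exact hk'

end Groth.Agent.AlmostBlow
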